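import Groth.Agent.Lib.ExtTilde20.Affine
import Groth.Agent.Lib.QCoh.Abelian
import Mathlib.Algebra.Homology.ShortComplex.ModuleCat

/-! # Coherence of local Ext -/

set_option autoImplicit false
set_option maxHeartbeats 400000
set_option linter.style.haveILetI false
set_option backward.isDefEq.respectTransparency false

universe u

open CategoryTheory CategoryTheory.Limits AlgebraicGeometry Opposite

namespace GrothLib.ExtTilde20

theorem moduleFinite_hom {R : Type u} [CommRing R] [IsNoetherianRing R] (M N : ModuleCat.{u} R) [Module.Finite R M]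
    [Module.Finite R N] : Module.Finite R (M ⟶ N) :=
  Module.Finite.equiv (ModuleCat.homLinearEquiv (S := R)).symm

theorem moduleFinite_homology {R : Type u} [CommRing R] [IsNoetherianRing R] (S : ShortComplex (ModuleCat.{u} R))
    [Module.Finite R S.X₂] : Module.Finite R S.homology :=
  haveI : IsNoetherian R S.X₂ := isNoetherian_of_isNoetherianRing_of_finite R _
  haveI : Module.Finite R S.moduleCatLeftHomologyData.H :=
    inferInstanceAs (Module.Finite R (LinearMap.ker S.g.hom ⧸ LinearMap.range S.moduleCatToCycles))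
  Module.Finite.equiv S.moduleCatHomologyIso.toLinearEquiv.symm

theorem moduleFinite_ext {R : CommRingCat.{u}} [IsNoetherianRing R] (M N : ModuleCat.{u} R) [Module.Finite R M]
    [Module.Finite R N] (i : ℕ) : Module.Finite R (Abelian.Ext M N i) := by
  let P := SGA2Fin.res M
  haveI := fun j => SGA2Fin.finite_res M j
  haveI : Module.Finite R ((P.complex.linearYonedaObj R N).sc i).X₂ := moduleFinite_hom (P.complex.X i) N
  haveI : Module.Finite R ((P.complex.linearYonedaObj R N).homology i) :=
    moduleFinite_homology ((P.complex.linearYonedaObj R N).sc i)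
  exact Module.Finite.equiv ((P.isoExt i N).symm.toLinearEquiv ≪≫ₗ LC.extEquiv M N i)

variable {X : Scheme.{u}} [IsLocallyNoetherian X] [HasInjectiveResolutions (ModSite.Mod X.sheaf)]
  (F G : X.Modules) [ModSite.HasSheafHom (O := X.sheaf) F]

/-- Local Ext from a coherent module to a quasi-coherent one is quasi-coherent. -/
theorem isQCoh_extSh (hF : Coh.IsCoh F) (hG : Coh.IsQCoh G) (i : ℕ) :
    Coh.IsQCoh ((ModSite.extSh (O := X.sheaf) F i).obj G) := by
  refine QCoh.isQuasicoherent_of_forall_fromSpec _ fun U hU => ?_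
  haveI := hF.1
  haveI : IsNoetherianRing Γ(X, U) := IsLocallyNoetherian.component_noetherian ⟨U, hU⟩
  haveI : Module.Finite Γ(X, U) Γ(F, U) := QCoh.moduleFinite_of_isFiniteType F hF.2 hU
  haveI : G.IsQuasicoherent := hG
  obtain ⟨a⟩ := nonempty_restrict_extSh_iso hU F G i
  have : ((tilde.functor Γ(X, U)).obj
      (ModuleCat.of Γ(X, U) (Abelian.Ext (secMod (U := U) F) (secMod (U := U) G) i))).IsQuasicoherent :=
    inferInstanceAs (tilde (R := Γ(X, U))
      (ModuleCat.of Γ(X, U) (Abelian.Ext (secMod (U := U) F) (secMod (U := U) G) i))).IsQuasicoherent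
  exact QCoh.isQuasicoherent_of_iso a.symm

/-- Local Ext between coherent modules is coherent. -/
theorem isCoh_extSh (hF : Coh.IsCoh F) (hG : Coh.IsCoh G) (i : ℕ) :
    Coh.IsCoh ((ModSite.extSh (O := X.sheaf) F i).obj G) := by
  have hq := isQCoh_extSh F G hF hG.1 i
  haveI : ((ModSite.extSh (O := X.sheaf) F i).obj G : X.Modules).IsQuasicoherent := hq
  refine ⟨hq, (QCoh.isFiniteType_iff_moduleFinite _).2 fun U hU => ?_⟩
  haveI := hF.1
  haveI := hG.1
  haveI : IsNoetherianRing Γ(X, U) := IsLocallyNoetherian.component_noetherian ⟨U, hU⟩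
  haveI : Module.Finite Γ(X, U) Γ(F, U) := QCoh.moduleFinite_of_isFiniteType F hF.2 hU
  haveI : Module.Finite Γ(X, U) Γ(G, U) := QCoh.moduleFinite_of_isFiniteType G hG.2 hU
  haveI : Module.Finite Γ(X, U) (secMod (U := U) F) := inferInstanceAs (Module.Finite Γ(X, U) Γ(F, U))
  haveI : Module.Finite Γ(X, U) (secMod (U := U) G) := inferInstanceAs (Module.Finite Γ(X, U) Γ(G, U))
  haveI := moduleFinite_ext (secMod (U := U) F) (secMod (U := U) G) i
  obtain ⟨a⟩ := nonempty_sections_extSh_linearEquiv hU F G i
  exact Module.Finite.equiv a.symm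

end GrothLib.ExtTilde20
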