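import Groth.Agent.Lib.ExtTilde20.Main
import Groth.Agent.Lib.HomRestrict20.Basic
import Groth.Agent.Lib.QCoh.FT
import Groth.Agent.Lib.SheafCoh.ModGroth
import Groth.Agent.Lib.SheafCoh.Derived

/-! # Local Ext over affine opens of a scheme -/

set_option autoImplicit false
set_option maxHeartbeats 400000
set_option linter.style.haveILetI false
set_option backward.isDefEq.respectTransparency false

universe u

open CategoryTheory CategoryTheory.Limits AlgebraicGeometry Opposite

namespace GrothLib.ExtTilde20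

theorem hasInjectiveResolutions_mod (X : Scheme.{u}) : HasInjectiveResolutions (ModSite.Mod X.sheaf) :=
  haveI : EnoughInjectives (ModSite.Mod X.sheaf) := SheafCoh.enoughInjectives_sheafOfModules (ModSite.ringSh X.sheaf)
  inferInstance

/-- Isomorphic arguments give isomorphic local Ext functors. -/
noncomputable def extShCongr {X : Scheme.{u}} [HasInjectiveResolutions (ModSite.Mod X.sheaf)] {E F : X.Modules}
    (e : E ≅ F) [ModSite.HasSheafHom (O := X.sheaf) E] [ModSite.HasSheafHom (O := X.sheaf) F] (i : ℕ) :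
    ModSite.extSh (O := X.sheaf) E i ≅ ModSite.extSh (O := X.sheaf) F i :=
  haveI := HomRestrict20.additive_sheafHom E
  haveI := HomRestrict20.additive_sheafHom F
  SheafCoh.rightDerivedCongr (LocFreeDual20.homCongrIso e) i

variable {X : Scheme.{u}} {U : X.Opens} (hU : IsAffineOpen U)

/-- The module of sections over an affine open, seen on its spectrum. -/
noncomputable abbrev secMod (F : X.Modules) : ModuleCat.{u} Γ(X, U) := ModuleCat.of Γ(X, U) Γ(F, U)

/-- A quasi-coherent module restricted to an affine open is associated with its sections. -/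
noncomputable def restrictTildeIso (F : X.Modules) [F.IsQuasicoherent] :
    F.restrict hU.fromSpec ≅ (tilde.functor Γ(X, U)).obj (secMod F) :=
  haveI : IsIso (F.restrict hU.fromSpec).fromTildeΓ := Scheme.Modules.isIso_fromTildeΓ_of_isQuasicoherent _
  (asIso (F.restrict hU.fromSpec).fromTildeΓ).symm ≪≫
    (tilde.functor Γ(X, U)).mapIso (QCoh.topLinearEquiv hU F).toModuleIso

variable [IsNoetherianRing Γ(X, U)] (F G : X.Modules) [F.IsQuasicoherent] [G.IsQuasicoherent]
  [Module.Finite Γ(X, U) Γ(F, U)]
  [ModSite.HasSheafHom (O := X.sheaf) F] [HasInjectiveResolutions (ModSite.Mod X.sheaf)]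

/-- `ℰxt^i(F, G)` on an affine open is associated with `Ext^i(F(U), G(U))`. -/
theorem nonempty_restrict_extSh_iso (i : ℕ) :
    Nonempty ((Scheme.Modules.restrictFunctor hU.fromSpec).obj ((ModSite.extSh (O := X.sheaf) F i).obj G) ≅
      (tilde.functor Γ(X, U)).obj
        (ModuleCat.of Γ(X, U) (Abelian.Ext (secMod (U := U) F) (secMod (U := U) G) i))) := by
  haveI := hasInjectiveResolutions_mod (Spec Γ(X, U))
  haveI := SheafCoh.hasSheafHom (Spec Γ(X, U)).sheaf ((Scheme.Modules.restrictFunctor hU.fromSpec).obj F)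
  haveI := SheafCoh.hasSheafHom (Spec Γ(X, U)).sheaf ((tilde.functor Γ(X, U)).obj (secMod F))
  haveI : Module.Finite Γ(X, U) (secMod (U := U) F) := inferInstanceAs (Module.Finite Γ(X, U) Γ(F, U))
  obtain ⟨a⟩ := nonempty_extSh_tilde_iso (secMod (U := U) F) (secMod (U := U) G) i
  exact ⟨(HomRestrict20.extShRestrictIso hU.fromSpec F i).app G ≪≫
    (ModSite.extSh (O := (Spec Γ(X, U)).sheaf) ((Scheme.Modules.restrictFunctor hU.fromSpec).obj F) i).mapIso
      (restrictTildeIso hU G) ≪≫
    (extShCongr (restrictTildeIso hU F) i).app _ ≪≫ a⟩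

include hU in
/-- The sections of `ℰxt^i(F, G)` over an affine open. -/
theorem nonempty_sections_extSh_linearEquiv (i : ℕ) :
    Nonempty (Γ(((ModSite.extSh (O := X.sheaf) F i).obj G : X.Modules), U) ≃ₗ[Γ(X, U)]
      Abelian.Ext (secMod (U := U) F) (secMod (U := U) G) i) := by
  obtain ⟨a⟩ := nonempty_restrict_extSh_iso hU F G i
  exact ⟨(QCoh.topLinearEquiv hU _).symm ≪≫ₗ ((moduleSpecΓFunctor (R := Γ(X, U))).mapIso a).toLinearEquiv ≪≫ₗ
    (tilde.toTildeΓNatIso.app _).symm.toLinearEquiv⟩

end GrothLib.ExtTilde20
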