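import Groth.Agent.Lib.OX.TildeTensor
import Groth.Agent.Lib.OX.QCohTensor
import Groth.Agent.Lib.OX.TildePerfect
import Groth.Agent.Lib.OX.RHomDual
import Groth.Agent.Lib.Euler.Coh
import Groth.Agent.Lib.DCoh.LocFree
import Groth.Agent.Lib.LocFreeDual20.Ext
import Groth.Agent.Lib.HomSES20.Hom

/-! # Internal Homs between associated sheaves on an affine scheme -/

set_option autoImplicit false
set_option maxHeartbeats 400000
set_option linter.style.haveILetI false
set_option backward.isDefEq.respectTransparency false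

universe u

open CategoryTheory CategoryTheory.Limits MonoidalCategory AlgebraicGeometry Opposite

namespace GrothLib.ExtTilde20

open OX

variable (R : CommRingCat.{u})

theorem left_map {X : Scheme.{u}} {A A' : X.Modules} (a : A ⟶ A') (B : X.Modules) :
  ((DCoh.tensorBi (X := X)).map a).app B = DCoh.shP.map (DCoh.toP.map a ▷ DCoh.toP.obj B) := rfl
theorem right_map {X : Scheme.{u}} (A : X.Modules) {B B' : X.Modules} (b : B ⟶ B') :
  ((DCoh.tensorBi (X := X)).obj A).map b = DCoh.shP.map (DCoh.toP.obj A ◁ DCoh.toP.map b) := rfl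

theorem tsecTop_natural {M M' : ModuleCat.{u} R} (g : M ⟶ M') (m : M) :
    (DCoh.toP.map ((tilde.functor R).map g)).app (op ⊤) (tsecTop R M m) = tsecTop R M' (g m) :=
  (ConcreteCategory.congr_hom ((tilde.adjunction (R := R)).unit.naturality g) m).symm

theorem tildeTensorHom_natural {M M' N N' : ModuleCat.{u} R} (g : M ⟶ M') (h : N ⟶ N') :
    (tilde.functor R).map (g ⊗ₘ h) ≫ tildeTensorHom R M' N' =
      tildeTensorHom R M N ≫ ((DCoh.tensorBi (X := Spec R)).map ((tilde.functor R).map g)).app _ ≫
        ((DCoh.tensorBi (X := Spec R)).obj _).map ((tilde.functor R).map h) := by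
  rw [left_map, right_map, ← Functor.map_comp, ← MonoidalCategory.tensorHom_def]
  refine ((tilde.adjunction (R := R)).homEquiv _ _).injective (ModuleCat.MonoidalCategory.tensor_ext fun m n => ?_)
  rw [Adjunction.homEquiv_unit, Adjunction.homEquiv_unit]
  refine ((congrArg (fun t => (DCoh.toP.map (tildeTensorHom R M' N')).app (op ⊤) t)
    (tsecTop_natural R (g ⊗ₘ h) (m ⊗ₜ[R] n))).trans ((tildeTensorHom_tsecTop R M' N' (g m) (h n)))).trans ?_
  refine Eq.trans ?_ (congrArg (fun t => (DCoh.toP.map (DCoh.shP.map _)).app (op ⊤) t) (tildeTensorHom_tsecTop R M N m n)).symm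
  exact (congrArg₂ (tmulSec _ _ ⊤) (tsecTop_natural R g m).symm (tsecTop_natural R h n).symm).trans (tmulSec_natural _ _ ⊤ _ _).symm

theorem tildeTensorHom_natural_left {M M' : ModuleCat.{u} R} (g : M ⟶ M') (N : ModuleCat.{u} R) :
    (tilde.functor R).map (g ▷ N) ≫ tildeTensorHom R M' N =
      tildeTensorHom R M N ≫ ((DCoh.tensorBi (X := Spec R)).map ((tilde.functor R).map g)).app _ := by
  have h1 := tildeTensorHom_natural R g (𝟙 N)
  erw [MonoidalCategory.tensorHom_id, (tilde.functor R).map_id,
    ((DCoh.tensorBi (X := Spec R)).obj _).map_id, Category.comp_id] at h1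
  exact h1

theorem tildeTensorHom_natural_right (M : ModuleCat.{u} R) {N N' : ModuleCat.{u} R} (h : N ⟶ N') :
    (tilde.functor R).map (M ◁ h) ≫ tildeTensorHom R M N' =
      tildeTensorHom R M N ≫ ((DCoh.tensorBi (X := Spec R)).obj _).map ((tilde.functor R).map h) := by
  have h1 := tildeTensorHom_natural R (𝟙 M) h
  erw [MonoidalCategory.id_tensorHom, (tilde.functor R).map_id,
    (DCoh.tensorBi (X := Spec R)).map_id, NatTrans.id_app, Category.id_comp] at h1
  exact h1

/-- The module `Hom(P, N)`. -/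
noncomputable abbrev homMod (P N : ModuleCat.{u} R) : ModuleCat.{u} R :=
  ModuleCat.of R (P ⟶ N)

/-- Evaluation. -/
noncomputable def evHom (P N : ModuleCat.{u} R) : homMod R P N ⊗ P ⟶ N :=
  ModuleCat.MonoidalCategory.tensorLift (fun f p => f p) (fun _ _ _ => rfl) (fun _ _ _ => rfl)
    (fun f p q => map_add f.hom p q) (fun r f p => map_smul f.hom r p)

/-- Precomposition. -/
noncomputable def preHom {P P' : ModuleCat.{u} R} (a : P ⟶ P') (N : ModuleCat.{u} R) :
    homMod R P' N ⟶ homMod R P N :=
  ModuleCat.ofHom (Linear.leftComp R N a)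

theorem evHom_dinatural {P P' : ModuleCat.{u} R} (a : P ⟶ P') (N : ModuleCat.{u} R) :
    (homMod R P' N ◁ a) ≫ evHom R P' N = (preHom R a N ▷ P) ≫ evHom R P N :=
  ModuleCat.MonoidalCategory.tensor_ext fun _ _ => rfl

variable {R}

/-- The transpose of evaluation, on the associated sheaves. -/
noncomputable def uφ (P N : ModuleCat.{u} R) :
    ((DCoh.tensorBi (X := Spec R)).obj ((tilde.functor R).obj (homMod R P N))).obj ((tilde.functor R).obj P) ⟶
      (tilde.functor R).obj N :=
  (tildeTensorIso R (homMod R P N) P).inv ≫ (tilde.functor R).map (evHom R P N)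

theorem uφ_dinatural {P P' : ModuleCat.{u} R} (a : P ⟶ P') (N : ModuleCat.{u} R) :
    ((DCoh.tensorBi (X := Spec R)).obj ((tilde.functor R).obj (homMod R P' N))).map ((tilde.functor R).map a) ≫
        uφ P' N =
      ((DCoh.tensorBi (X := Spec R)).map ((tilde.functor R).map (preHom R a N))).app _ ≫ uφ P N := by
  rw [← cancel_epi (tildeTensorIso R (homMod R P' N) P).hom]
  have h1 := tildeTensorHom_natural_right R (homMod R P' N) a
  have h2 := tildeTensorHom_natural_left R (preHom R a N) P
  show tildeTensorHom R (homMod R P' N) P ≫ _ = tildeTensorHom R (homMod R P' N) P ≫ _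
  unfold uφ
  rw [← reassoc_of% h1, ← reassoc_of% h2]
  show (tilde.functor R).map (_ ◁ a) ≫ (tildeTensorIso R _ P').hom ≫ _ =
    (tilde.functor R).map (_ ▷ P) ≫ (tildeTensorIso R _ P).hom ≫ _
  rw [Iso.hom_inv_id_assoc, Iso.hom_inv_id_assoc, ← Functor.map_comp, ← Functor.map_comp, evHom_dinatural]

/-- `Hom(P, N)~ ⟶ ℋom(P~, N~)`. -/
noncomputable def φ (P N : ModuleCat.{u} R)
    [ModSite.HasSheafHom (O := (Spec R).sheaf) ((tilde.functor R).obj P)] :
    (tilde.functor R).obj (homMod R P N) ⟶
      (ModSite.sheafHom (O := (Spec R).sheaf) ((tilde.functor R).obj P)).obj ((tilde.functor R).obj N) :=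
  (ModSite.sheafHomAdj (O := (Spec R).sheaf) ((tilde.functor R).obj P)).homEquiv _ _ (uφ P N)

theorem φ_natural {P P' : ModuleCat.{u} R}
    [ModSite.HasSheafHom (O := (Spec R).sheaf) ((tilde.functor R).obj P)]
    [ModSite.HasSheafHom (O := (Spec R).sheaf) ((tilde.functor R).obj P')] (a : P ⟶ P') (N : ModuleCat.{u} R) :
    φ P' N ≫ (ExtSupp.sheafHomMap (O := (Spec R).sheaf) ((tilde.functor R).map a)).app ((tilde.functor R).obj N) =
      (tilde.functor R).map (preHom R a N) ≫ φ P N := by
  apply ((ModSite.sheafHomAdj (O := (Spec R).sheaf) ((tilde.functor R).obj P)).homEquiv _ _).symm.injective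
  refine (HomSES20.symm_comp_sheafHomMap ((tilde.functor R).map a) (φ P' N)).trans ?_
  refine (congrArg (_ ≫ ·) (Equiv.symm_apply_apply _ (uφ P' N))).trans ?_
  refine Eq.trans (uφ_dinatural a N) ?_
  let adj := ModSite.sheafHomAdj (O := (Spec R).sheaf) ((tilde.functor R).obj P)
  have h := adj.homEquiv_naturality_left_symm ((tilde.functor R).map (preHom R a N)) (φ P N)
  rw [show (adj.homEquiv _ _).symm (φ P N) = uφ P N from Equiv.symm_apply_apply _ _] at h
  exact h.symm

theorem comp_φ {P N M : ModuleCat.{u} R}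
    [ModSite.HasSheafHom (O := (Spec R).sheaf) ((tilde.functor R).obj P)] (k : M ⟶ homMod R P N) :
    ((ModSite.sheafHomAdj (O := (Spec R).sheaf) ((tilde.functor R).obj P)).homEquiv _ _).symm
        ((tilde.functor R).map k ≫ φ P N) =
      (tildeTensorIso R M P).inv ≫ (tilde.functor R).map ((k ▷ P) ≫ evHom R P N) := by
  rw [Adjunction.homEquiv_naturality_left_symm, φ, Equiv.symm_apply_apply, ← cancel_epi (tildeTensorIso R M P).hom,
    Iso.hom_inv_id_assoc, Functor.map_comp]
  have h1 := tildeTensorHom_natural_left R k P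
  show tildeTensorHom R M P ≫ ((DCoh.tensorBi (X := Spec R)).map ((tilde.functor R).map k)).app _ ≫
    (tildeTensorIso R (homMod R P N) P).inv ≫ _ = _
  rw [← reassoc_of% h1]
  show (tilde.functor R).map (k ▷ P) ≫ (tildeTensorIso R _ P).hom ≫ _ = _
  rw [Iso.hom_inv_id_assoc]

/-- Maps into `Hom(P, N)` from a tensor product. -/
noncomputable def curryMod {P N M : ModuleCat.{u} R} (h : M ⊗ P ⟶ N) : M ⟶ homMod R P N :=
  ModuleCat.ofHom
    { toFun := fun m => ModuleCat.ofHom
        { toFun := fun p => h (m ⊗ₜ[R] p)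
          map_add' := fun p q => (congrArg h.hom (TensorProduct.tmul_add m p q)).trans (map_add h.hom _ _)
          map_smul' := fun r p => (congrArg h.hom (TensorProduct.tmul_smul r m p)).trans (map_smul h.hom r _) }
      map_add' := fun m m' => ModuleCat.hom_ext (LinearMap.ext fun p =>
        (congrArg h.hom (TensorProduct.add_tmul m m' p)).trans (map_add h.hom _ _))
      map_smul' := fun r m => ModuleCat.hom_ext (LinearMap.ext fun p =>
        (congrArg h.hom (TensorProduct.smul_tmul' r m p).symm).trans (map_smul h.hom r _)) }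

theorem curryMod_ev {P N M : ModuleCat.{u} R} (h : M ⊗ P ⟶ N) : (curryMod h ▷ P) ≫ evHom R P N = h :=
  ModuleCat.MonoidalCategory.tensor_ext fun _ _ => rfl

theorem curryMod_unique {P N M : ModuleCat.{u} R} {k k' : M ⟶ homMod R P N}
    (e : (k ▷ P) ≫ evHom R P N = (k' ▷ P) ≫ evHom R P N) : k = k' :=
  ModuleCat.hom_ext (LinearMap.ext fun m => ModuleCat.hom_ext (LinearMap.ext fun p =>
    ConcreteCategory.congr_hom e (m ⊗ₜ[R] p)))

theorem bijective_comp_φ {P N M : ModuleCat.{u} R}
    [ModSite.HasSheafHom (O := (Spec R).sheaf) ((tilde.functor R).obj P)] :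
    Function.Bijective fun x : (tilde.functor R).obj M ⟶ (tilde.functor R).obj (homMod R P N) => x ≫ φ P N := by
  let adj := ModSite.sheafHomAdj (O := (Spec R).sheaf) ((tilde.functor R).obj P)
  constructor
  · intro x x' e
    obtain ⟨k, rfl⟩ := (tilde.functor R).map_surjective x
    obtain ⟨k', rfl⟩ := (tilde.functor R).map_surjective x'
    have e' := congrArg (adj.homEquiv _ _).symm e
    rw [comp_φ, comp_φ, cancel_epi] at e'
    exact congrArg _ (curryMod_unique ((tilde.functor R).map_injective e'))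
  · intro g
    obtain ⟨h, hh⟩ := (tilde.functor R).map_surjective
      ((tildeTensorIso R M P).hom ≫ (adj.homEquiv _ _).symm g)
    refine ⟨(tilde.functor R).map (curryMod h), (adj.homEquiv _ _).symm.injective ?_⟩
    rw [comp_φ, curryMod_ev, hh, Iso.inv_hom_id_assoc]

theorem isQCoh_sheafHom {P : ModuleCat.{u} R} [Module.Finite R P] [Module.Projective R P]
    [ModSite.HasSheafHom (O := (Spec R).sheaf) ((tilde.functor R).obj P)] (N : ModuleCat.{u} R) :
    Coh.IsQCoh ((ModSite.sheafHom (O := (Spec R).sheaf) ((tilde.functor R).obj P)).obj ((tilde.functor R).obj N)) := by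
  have hE := OX.isFinLocFree_tilde P
  have := LocFreeHom.hasSheafHom ((tilde.functor R).obj P)
  have hD : FlatMod.IsFinLocFree
      ((ModSite.sheafHom (O := (Spec R).sheaf) ((tilde.functor R).obj P)).obj (Coh.structureModule (Spec R))) :=
    DCoh.isFinLocFree_of_iso ((LocFreeDual20.siteHomIso ((tilde.functor R).obj P)).app _).symm
      (LocFreeHom.isFinLocFree_iHom hE (OX.isFinLocFree_structureModule _))
  exact OX.isQCoh_of_iso (LocFreeDual20.homObjIso hE ((tilde.functor R).obj N)).symm
    (OX.isQCoh_tilde_tensor N (Euler.isCoh_of_isFinLocFree hD).1)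

theorem isIso_φ (P : ModuleCat.{u} R) [Module.Finite R P] [Module.Projective R P] (N : ModuleCat.{u} R)
    [ModSite.HasSheafHom (O := (Spec R).sheaf) ((tilde.functor R).obj P)] : IsIso (φ P N) := by
  have hQ := isQCoh_sheafHom (P := P) N
  have := @Scheme.Modules.isIso_fromTildeΓ_of_isQuasicoherent _
    ((ModSite.sheafHom (O := (Spec R).sheaf) ((tilde.functor R).obj P)).obj ((tilde.functor R).obj N)) hQ
  let e := asIso (Scheme.Modules.fromTildeΓ
    ((ModSite.sheafHom (O := (Spec R).sheaf) ((tilde.functor R).obj P)).obj ((tilde.functor R).obj N)))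
  obtain ⟨x, hx⟩ := (bijective_comp_φ (P := P) (N := N)).2 e.hom
  have hx : x ≫ φ P N = e.hom := hx
  refine ⟨e.inv ≫ x, (bijective_comp_φ (M := homMod R P N)).1 ?_, ?_⟩
  · show ((φ P N) ≫ e.inv ≫ x) ≫ φ P N = 𝟙 _ ≫ φ P N
    rw [Category.assoc, Category.assoc, hx, e.inv_hom_id, Category.comp_id, Category.id_comp]
  · rw [Category.assoc, hx, e.inv_hom_id]

end GrothLib.ExtTilde20
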