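import Groth.Agent.Lib.ExtTilde20.Hom
import Groth.Agent.Lib.OX.StalkTensor
import Groth.Agent.Lib.OX.SingleDegree
import Groth.Agent.Lib.OX.Exact
import Groth.Agent.Lib.HomColim25.Basic
import Mathlib.Algebra.Category.ModuleCat.Projective

/-! # Stalks of internal Homs out of finite projective modules -/

set_option autoImplicit false
set_option maxHeartbeats 400000
set_option linter.style.haveILetI false
set_option backward.isDefEq.respectTransparency false

universe u

open CategoryTheory CategoryTheory.Limits MonoidalCategory AlgebraicGeometry Opposite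

namespace GrothLib.ExtTilde20

section Algebra

variable {R : CommRingCat.{u}}

theorem bijective_curryMod {V M N : ModuleCat.{u} R} (e : R ≃ₗ[R] V) (h : M ⊗ V ⟶ N) [IsIso h] :
    Function.Bijective (curryMod h).hom := by
  have hi : Function.Bijective h.hom := (ConcreteCategory.bijective_of_isIso h)
  let r : (M ⊗ V : ModuleCat.{u} R) ≃ₗ[R] M :=
    (TensorProduct.congr (LinearEquiv.refl R M) e.symm).trans (TensorProduct.rid R M)
  have hr : ∀ m v, r (m ⊗ₜ[R] v) = e.symm v • m := fun m v =>
    (congrArg (TensorProduct.rid R M) (TensorProduct.congr_tmul _ _ m v)).trans (TensorProduct.rid_tmul _ _)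
  constructor
  · intro m m' hm
    have h1 : h (m ⊗ₜ[R] e 1) = h (m' ⊗ₜ[R] e 1) := congrArg (fun f => f (e 1)) hm
    have h2 := congrArg r (hi.1 h1)
    rwa [hr, hr, e.symm_apply_apply, one_smul, one_smul] at h2
  · intro f
    obtain ⟨y, hy⟩ := hi.2 (f (e 1))
    refine ⟨r y, ModuleCat.hom_ext (LinearMap.ext fun v => ?_)⟩
    show h ((r y) ⊗ₜ[R] v) = f v
    have h3 : (r y) ⊗ₜ[R] v = e.symm v • y := r.injective (by rw [hr, map_smul])
    exact ((congrArg h.hom h3).trans (map_smul h.hom _ _)).trans ((congrArg (e.symm v • ·) hy).trans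
      ((f.hom.map_smul _ _).symm.trans (congrArg f.hom (by rw [← map_smul, smul_eq_mul, mul_one, e.apply_symm_apply]))))

end Algebra

variable {X : Scheme.{u}} (x : X)

/-- The uncurried comparison. -/
noncomputable def uΨ (E G : X.Modules) [ModSite.HasSheafHom (O := X.sheaf) E] :
    (OX.stalk x).obj ((ModSite.sheafHom (O := X.sheaf) E).obj G) ⊗ (OX.stalk x).obj E ⟶ (OX.stalk x).obj G :=
  (OX.stalkTensorBiIso x _ E).inv ≫ (OX.stalk x).map ((ModSite.sheafHomAdj (O := X.sheaf) E).counit.app G)

/-- `ℋom(E, G)_x ⟶ Hom(E_x, G_x)`. -/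
noncomputable def Ψ (E G : X.Modules) [ModSite.HasSheafHom (O := X.sheaf) E] :
    (OX.stalk x).obj ((ModSite.sheafHom (O := X.sheaf) E).obj G) ⟶
      homMod (X.presheaf.stalk x) ((OX.stalk x).obj E) ((OX.stalk x).obj G) :=
  curryMod (uΨ x E G)

theorem Ψ_natural {E E' : X.Modules} [ModSite.HasSheafHom (O := X.sheaf) E] [ModSite.HasSheafHom (O := X.sheaf) E']
    (a : E ⟶ E') (G : X.Modules) :
    (OX.stalk x).map ((ExtSupp.sheafHomMap (O := X.sheaf) a).app G) ≫ Ψ x E G =
      Ψ x E' G ≫ preHom (X.presheaf.stalk x) ((OX.stalk x).map a) ((OX.stalk x).obj G) := by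
  refine curryMod_unique ?_
  simp only [MonoidalCategory.comp_whiskerRight, Category.assoc]
  rw [Ψ, curryMod_ev, ← evHom_dinatural, ← MonoidalCategory.whisker_exchange_assoc, Ψ, curryMod_ev, uΨ, uΨ]
  rw [← cancel_epi (OX.stalkTensorBiIso x ((ModSite.sheafHom (O := X.sheaf) E').obj G) E).hom]
  rw [← reassoc_of% (OX.stalkTensorBiIso_natural₂ x ((ModSite.sheafHom (O := X.sheaf) E').obj G) a)]
  rw [← reassoc_of% (OX.stalkTensorBiIso_natural₁ x ((ExtSupp.sheafHomMap (O := X.sheaf) a).app G) E)]
  rw [Iso.hom_inv_id_assoc, Iso.hom_inv_id_assoc, ← Functor.map_comp, ← Functor.map_comp]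
  exact congrArg (OX.stalk x).map (conjugateEquiv_counit (ModSite.sheafHomAdj (O := X.sheaf) E')
    (ModSite.sheafHomAdj (O := X.sheaf) E) ((ModSite.tensorBi X.sheaf).flip.map a) G)

theorem symm_add (E P G : X.Modules) [ModSite.HasSheafHom (O := X.sheaf) E]
    (p q : P ⟶ (ModSite.sheafHom (O := X.sheaf) E).obj G) :
    ((ModSite.sheafHomAdj (O := X.sheaf) E).homEquiv P G).symm (p + q) =
      ((ModSite.sheafHomAdj (O := X.sheaf) E).homEquiv P G).symm p +
        ((ModSite.sheafHomAdj (O := X.sheaf) E).homEquiv P G).symm q := by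
  rw [Adjunction.homEquiv_counit, Adjunction.homEquiv_counit, Adjunction.homEquiv_counit]
  have h0 : ((ModSite.tensorBi X.sheaf).flip.obj E).map (p + q) =
      ((ModSite.tensorBi X.sheaf).flip.obj E).map p + ((ModSite.tensorBi X.sheaf).flip.obj E).map q :=
    ((DCoh.tensorBi (X := X)).flip.obj E).map_add
  rw [h0]
  exact Preadditive.add_comp _ _ _ _ _ _

theorem map_tensor_add (P : X.Modules) {E E' : X.Modules} (a b : E ⟶ E') :
    ((ModSite.tensorBi X.sheaf).obj P).map (a + b) =
      ((ModSite.tensorBi X.sheaf).obj P).map a + ((ModSite.tensorBi X.sheaf).obj P).map b := by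
  have : ((DCoh.tensorBi (X := X)).obj P).Additive :=
    Functor.additive_of_iso ((OX.tensorBraiding (X := X)).app P)
  exact ((DCoh.tensorBi (X := X)).obj P).map_add

theorem sheafHomMap_add_app {E E' : X.Modules} [ModSite.HasSheafHom (O := X.sheaf) E]
    [ModSite.HasSheafHom (O := X.sheaf) E'] (a b : E ⟶ E') (G : X.Modules) :
    (ExtSupp.sheafHomMap (O := X.sheaf) (a + b)).app G =
      (ExtSupp.sheafHomMap (O := X.sheaf) a).app G + (ExtSupp.sheafHomMap (O := X.sheaf) b).app G := by
  have h : ∀ {P : X.Modules} (k : P ⟶ (ModSite.sheafHom (O := X.sheaf) E').obj G),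
      k ≫ (ExtSupp.sheafHomMap (O := X.sheaf) (a + b)).app G = k ≫ (ExtSupp.sheafHomMap (O := X.sheaf) a).app G +
        k ≫ (ExtSupp.sheafHomMap (O := X.sheaf) b).app G := by
    intro P k
    apply ((ModSite.sheafHomAdj (O := X.sheaf) E).homEquiv P G).symm.injective
    refine (HomSES20.symm_comp_sheafHomMap (a + b) k).trans ?_
    refine Eq.trans ?_ (symm_add E P G _ _).symm
    refine Eq.trans ?_ (congrArg₂ (· + ·) (HomSES20.symm_comp_sheafHomMap a k)
      (HomSES20.symm_comp_sheafHomMap b k)).symm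
    rw [map_tensor_add P a b]
    exact Preadditive.add_comp _ _ _ _ _ _
  have h' := h (𝟙 _)
  rwa [Category.id_comp, Category.id_comp, Category.id_comp] at h'

/-- The internal Hom as an additive map in its first variable. -/
noncomputable def preHomₐ (E E' G : X.Modules) [ModSite.HasSheafHom (O := X.sheaf) E]
    [ModSite.HasSheafHom (O := X.sheaf) E'] :
    (E ⟶ E') →+ ((ModSite.sheafHom (O := X.sheaf) E').obj G ⟶ (ModSite.sheafHom (O := X.sheaf) E).obj G) :=
  AddMonoidHom.mk' (fun a => (ExtSupp.sheafHomMap (O := X.sheaf) a).app G) fun a b => sheafHomMap_add_app a b G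

theorem Ψ_natural_apply {E E' : X.Modules} [ModSite.HasSheafHom (O := X.sheaf) E]
    [ModSite.HasSheafHom (O := X.sheaf) E'] (a : E ⟶ E') (G : X.Modules)
    (z : (OX.stalk x).obj ((ModSite.sheafHom (O := X.sheaf) E').obj G)) :
    (Ψ x E G).hom (((OX.stalk x).map ((ExtSupp.sheafHomMap (O := X.sheaf) a).app G)).hom z) =
      (OX.stalk x).map a ≫ (Ψ x E' G).hom z :=
  ConcreteCategory.congr_hom (Ψ_natural x a G) z

theorem bijective_Ψ_of_decomp {E V : X.Modules} [ModSite.HasSheafHom (O := X.sheaf) E]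
    [ModSite.HasSheafHom (O := X.sheaf) V] (G : X.Modules) {n : ℕ} (a : Fin n → (E ⟶ V)) (b : Fin n → (V ⟶ E))
    (h : ∑ k, a k ≫ b k = 𝟙 E) (hV : Function.Bijective (Ψ x V G).hom) : Function.Bijective (Ψ x E G).hom := by
  let pa := fun k => (OX.stalk x).map ((ExtSupp.sheafHomMap (O := X.sheaf) (a k)).app G)
  let pb := fun k => (OX.stalk x).map ((ExtSupp.sheafHomMap (O := X.sheaf) (b k)).app G)
  have hsum : ∑ k, pb k ≫ pa k = 𝟙 _ := by
    have e1 : ∀ k, pb k ≫ pa k = (OX.stalk x).map (preHomₐ E E G (a k ≫ b k)) := fun k =>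
      ((OX.stalk x).map_comp _ _).symm.trans
        (congrArg (OX.stalk x).map (HomSES20.sheafHomMap_comp_app (a k) (b k) G))
    rw [Finset.sum_congr rfl fun k _ => e1 k, ← Functor.map_sum, ← map_sum, h]
    refine (congrArg (OX.stalk x).map ?_).trans ((OX.stalk x).map_id _)
    exact (congrArg (fun t => NatTrans.app t G) (congrArg
      (conjugateEquiv (ModSite.sheafHomAdj (O := X.sheaf) E) (ModSite.sheafHomAdj (O := X.sheaf) E))
      ((ModSite.tensorBi X.sheaf).flip.map_id E))).trans
      (congrArg (fun t => NatTrans.app t G) (conjugateEquiv_id (ModSite.sheafHomAdj (O := X.sheaf) E)))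
  constructor
  · refine (injective_iff_map_eq_zero _).2 fun z hz => ?_
    have h0 : ∀ k, (pb k).hom z = 0 := fun k => hV.1 (by
      rw [Ψ_natural_apply, hz, map_zero]
      exact comp_zero)
    have := congrArg (fun t => (ModuleCat.Hom.hom t) z) hsum
    simp only [ModuleCat.hom_sum, LinearMap.sum_apply, ModuleCat.hom_comp, LinearMap.comp_apply, h0, map_zero,
      Finset.sum_const_zero, ModuleCat.hom_id, LinearMap.id_apply] at this
    exact this.symm
  · intro w
    choose z hz using fun k => hV.2 ((OX.stalk x).map (b k) ≫ w)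
    refine ⟨∑ k, (pa k).hom (z k), ?_⟩
    rw [map_sum, Finset.sum_congr rfl fun k _ => (Ψ_natural_apply x (a k) G (z k)).trans
      ((congrArg (_ ≫ ·) (hz k)).trans ((Category.assoc _ _ _).symm.trans
        (congrArg (· ≫ w) ((OX.stalk x).map_comp _ _).symm)))]
    rw [← Preadditive.sum_comp, ← Functor.map_sum, h, CategoryTheory.Functor.map_id, Category.id_comp]

theorem bijective_Ψ_unit [ModSite.HasSheafHom (O := X.sheaf) (Coh.structureModule X)] (G : X.Modules) :
    Function.Bijective (Ψ x (Coh.structureModule X) G).hom := by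
  obtain ⟨e⟩ := AssPts.exists_stalk_unit_equiv x
  let adj := ModSite.sheafHomAdj (O := X.sheaf) (Coh.structureModule X)
  haveI : ((ModSite.tensorBi X.sheaf).flip.obj (Coh.structureModule X)).IsEquivalence :=
    Functor.isEquivalence_of_iso (HomColim25.tensorUnitNatIso (O := X.sheaf)).symm
  haveI : ((ModSite.tensorBi X.sheaf).flip.obj (Coh.structureModule X)).Full := inferInstance
  haveI := adj.isEquivalence_right_of_isEquivalence_left
  haveI : IsIso (adj.counit.app G) := inferInstance
  haveI : IsIso ((OX.stalk x).map (adj.counit.app G)) := inferInstance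
  haveI : IsIso (uΨ x (Coh.structureModule X) G) := IsIso.comp_isIso
  exact bijective_curryMod (V := (OX.stalk x).obj (Coh.structureModule X)) e (uΨ x (Coh.structureModule X) G)

theorem isIso_Ψ_tilde (R : CommRingCat.{u}) (P : ModuleCat.{u} R) [Module.Finite R P] [Module.Projective R P]
    (x : Spec R) (G : (Spec R).Modules) [ModSite.HasSheafHom (O := (Spec R).sheaf) ((tilde.functor R).obj P)] :
    IsIso (Ψ x ((tilde.functor R).obj P) G) := by
  haveI := SheafCoh.hasSheafHom (Spec R).sheaf (Coh.structureModule (Spec R))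
  obtain ⟨n, s, i, -, -, hsi⟩ := Module.Finite.exists_comp_eq_id_of_projective R P
  let a : Fin n → (P ⟶ ModuleCat.of R R) := fun k => ModuleCat.ofHom ((LinearMap.proj k).comp i)
  let b : Fin n → (ModuleCat.of R R ⟶ P) := fun k => ModuleCat.ofHom (s.comp (LinearMap.single R (fun _ => R) k))
  have hab : ∑ k, a k ≫ b k = 𝟙 P := ModuleCat.hom_ext (LinearMap.ext fun p => by
    rw [ModuleCat.hom_sum, LinearMap.sum_apply]
    show ∑ k, s (Pi.single k (i p k)) = p
    rw [← map_sum, Finset.univ_sum_single]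
    exact LinearMap.congr_fun hsi p)
  refine (ConcreteCategory.isIso_iff_bijective _).2 (bijective_Ψ_of_decomp x G
    (V := Coh.structureModule (Spec R)) (fun k => (tilde.functor R).map (a k)) (fun k => (tilde.functor R).map (b k))
    ?_ (bijective_Ψ_unit x G))
  exact ((Finset.sum_congr rfl fun k _ => ((tilde.functor R).map_comp _ _).symm).trans
    ((tilde.functor R).map_sum _ _).symm).trans ((congrArg _ hab).trans ((tilde.functor R).map_id P))

end GrothLib.ExtTilde20
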