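import Groth.Agent.Lib.OX.Stalk
import Groth.Agent.Lib.OX.FlatLocFree
import Groth.Prelude.Def_ModSite2
import Mathlib.Topology.Sheaves.Points
import Mathlib.Algebra.Category.ModuleCat.ChangeOfRings

/-! # The stalk at a point of the site of opens and the stalk of a presheaf agree -/

set_option autoImplicit false
set_option maxHeartbeats 400000
set_option linter.style.haveILetI false
set_option backward.isDefEq.respectTransparency false

universe u

open CategoryTheory CategoryTheory.Limits AlgebraicGeometry Opposite TopologicalSpace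

namespace GrothLib.ExtTilde20

variable {X : Scheme.{u}} (x : X)

/-- The point of the site. -/
noncomputable abbrev pt : GrothendieckTopology.Point.{u} (Opens.grothendieckTopology X) :=
  Opens.pointGrothendieckTopology x

/-- From the site stalk of the structure sheaf. -/
noncomputable def ringTo : ModSite.stalkRing (pt x) X.sheaf ⟶ X.presheaf.stalk x :=
  GrothendieckTopology.Point.presheafFiberDesc (pt x) (fun U h => X.presheaf.germ U x h.down.down)
    (fun _ _ f h => X.presheaf.germ_res f x h.down.down)

theorem ringTo_germ (U : X.Opens) (h : (pt x).fiber.obj U) (r : Γ(X, U)) :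
    ringTo x (ModSite.germRing (O := X.sheaf) (pt x) U h r) = X.presheaf.germ U x h.down.down r :=
  ConcreteCategory.congr_hom
    (GrothendieckTopology.Point.toPresheafFiber_presheafFiberDesc (pt x) (P := X.presheaf) _
      (fun _ _ f h => X.presheaf.germ_res f x h.down.down) U h) r

theorem bijective_ringTo : Function.Bijective (ringTo x) := by
  constructor
  · intro a b hab
    obtain ⟨U, h, s, t, rfl, rfl⟩ := (pt x).toPresheafFiber_jointly_surjective₂ (P := X.presheaf) a b
    have he : X.presheaf.germ U x h.down.down s = X.presheaf.germ U x h.down.down t :=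
      (ringTo_germ x U h s).symm.trans (hab.trans (ringTo_germ x U h t))
    obtain ⟨W, hW, iU, iU', e⟩ := X.presheaf.germ_eq x h.down.down h.down.down s t he
    rw [Subsingleton.elim iU' iU] at e
    exact ((pt x).toPresheafFiber_eq_iff' U h s t).2 ⟨W, iU, ⟨⟨hW⟩⟩, rfl, e⟩
  · intro a
    obtain ⟨U, hU, s, rfl⟩ := X.presheaf.exists_germ_eq a
    exact ⟨ModSite.germRing (O := X.sheaf) (pt x) U ⟨⟨hU⟩⟩ s, ringTo_germ x U ⟨⟨hU⟩⟩ s⟩

/-- The two local rings agree. -/
noncomputable def ringEquiv : ModSite.stalkRing (pt x) X.sheaf ≃+* X.presheaf.stalk x :=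
  RingEquiv.ofBijective (ringTo x).hom (bijective_ringTo x)

variable (M : X.Modules)

/-- From the site stalk of a module. -/
noncomputable def modTo : ModSite.stalkAb (O := X.sheaf) (pt x) M ⟶
    AddCommGrpCat.of ((OX.stalk x).obj M) :=
  GrothendieckTopology.Point.presheafFiberDesc (pt x)
    (fun U h => AddCommGrpCat.ofHom (OX.germ (DCoh.toP.obj M) U h.down.down))
    (fun _ _ f h => AddCommGrpCat.ext fun m => OX.germ_map (DCoh.toP.obj M) f h.down.down m)

theorem modTo_germ (U : X.Opens) (h : (pt x).fiber.obj U) (s : ModSite.sect (O := X.sheaf) M U) :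
    (modTo x M).hom (ModSite.germ (O := X.sheaf) (pt x) M U h s) = OX.germ (DCoh.toP.obj M) U h.down.down s :=
  ConcreteCategory.congr_hom
    (GrothendieckTopology.Point.toPresheafFiber_presheafFiberDesc (pt x)
      (P := (ModSite.toAb (O := X.sheaf) M).obj) _
      (fun _ _ f h => AddCommGrpCat.ext fun m => OX.germ_map (DCoh.toP.obj M) f h.down.down m) U h) s

theorem bijective_modTo : Function.Bijective (modTo x M).hom := by
  constructor
  · intro a b hab
    obtain ⟨U, h, s, t, rfl, rfl⟩ :=
      (pt x).toPresheafFiber_jointly_surjective₂ (P := (ModSite.toAb (O := X.sheaf) M).obj) a b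
    have he : OX.germ (DCoh.toP.obj M) U h.down.down s = OX.germ (DCoh.toP.obj M) U h.down.down t :=
      (modTo_germ x M U h s).symm.trans (hab.trans (modTo_germ x M U h t))
    obtain ⟨W, hW, iU, iU', e⟩ := TopCat.Presheaf.germ_eq (OX.prs (DCoh.toP.obj M)) x h.down.down h.down.down s t he
    rw [Subsingleton.elim iU' iU] at e
    exact ((pt x).toPresheafFiber_eq_iff' U h s t).2 ⟨W, iU, ⟨⟨hW⟩⟩, rfl, e⟩
  · intro a
    obtain ⟨U, hU, s, rfl⟩ := OX.germ_exists (DCoh.toP.obj M) a
    exact ⟨ModSite.germ (O := X.sheaf) (pt x) M U ⟨⟨hU⟩⟩ s, modTo_germ x M U ⟨⟨hU⟩⟩ s⟩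

theorem modTo_smul (r : ModSite.stalkRing (pt x) X.sheaf) (m : ModSite.stalkAb (O := X.sheaf) (pt x) M) :
    (modTo x M).hom (r • m) = ringTo x r • (show (OX.stalk x).obj M from (modTo x M).hom m) := by
  obtain ⟨U, hU, r0, rfl⟩ := (pt x).toPresheafFiber_jointly_surjective (P := X.presheaf) r
  obtain ⟨V, hV, m0, rfl⟩ :=
    (pt x).toPresheafFiber_jointly_surjective (P := (ModSite.toAb (O := X.sheaf) M).obj) m
  let W : X.Opens := U ⊓ V
  let hW : (pt x).fiber.obj W := ⟨⟨⟨hU.down.down, hV.down.down⟩⟩⟩
  have eR : (pt x).toPresheafFiber U hU X.presheaf r0 =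
      (pt x).toPresheafFiber W hW X.presheaf (X.presheaf.map (homOfLE inf_le_left : W ⟶ U).op r0) :=
    ((pt x).toPresheafFiber_w_apply (homOfLE inf_le_left : W ⟶ U) hW X.presheaf r0).symm
  have eM : (pt x).toPresheafFiber V hV (ModSite.toAb (O := X.sheaf) M).obj m0 =
      (pt x).toPresheafFiber W hW (ModSite.toAb (O := X.sheaf) M).obj
        ((ModSite.toAb (O := X.sheaf) M).obj.map (homOfLE inf_le_right : W ⟶ V).op m0) :=
    ((pt x).toPresheafFiber_w_apply (homOfLE inf_le_right : W ⟶ V) hW (ModSite.toAb (O := X.sheaf) M).obj m0).symm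
  rw [eR, eM]
  refine (congrArg (modTo x M).hom
    (ModSite.germ_smul (O := X.sheaf) (pt x) M W hW _ _).symm).trans ?_
  refine (modTo_germ x M W hW _).trans ((OX.germ_smul' (DCoh.toP.obj M) W hW.down.down _ _).trans ?_)
  exact (congrArg₂ (fun (a : X.presheaf.stalk x) (b : (OX.stalk x).obj M) => a • b)
    (ringTo_germ x W hW _) (modTo_germ x M W hW _)).symm

/-- The two stalks of a module agree. -/
noncomputable def stalkModIso : ModSite.stalkMod (O := X.sheaf) (pt x) M ≅
    (ModuleCat.restrictScalars (ringEquiv x).toRingHom).obj ((OX.stalk x).obj M) :=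
  LinearEquiv.toModuleIso (X₂ := (ModuleCat.restrictScalars (ringEquiv x).toRingHom).obj ((OX.stalk x).obj M))
    { AddEquiv.ofBijective (modTo x M).hom (bijective_modTo x M) with
      map_smul' := modTo_smul x M }

variable {U : Scheme.{u}} (j : U ⟶ X) [IsOpenImmersion j] (y : U)

/-- The local rings agree along an open immersion. -/
noncomputable def openRingEquiv : X.presheaf.stalk (j y) ≃+* U.presheaf.stalk y :=
  (asIso (j.stalkMap y)).commRingCatIsoToRingEquiv

/-- The stalk of a module is the stalk of its restriction. -/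
noncomputable def stalkRestrictIso : (OX.stalk (j y)).obj M ≅
    (ModuleCat.restrictScalars (openRingEquiv j y).toRingHom).obj
      ((OX.stalk y).obj ((Scheme.Modules.restrictFunctor j).obj M)) :=
  haveI : IsIso (ModuleCat.extendRestrictScalarsAdj (openRingEquiv j y).toRingHom).unit := inferInstance
  asIso ((ModuleCat.extendRestrictScalarsAdj (openRingEquiv j y).toRingHom).unit.app ((OX.stalk (j y)).obj M)) ≪≫
    (ModuleCat.restrictScalars (openRingEquiv j y).toRingHom).mapIso ((OX.restrictStalkExtIso j y).app M).symm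

/-- Change of rings from the site stalk to the local ring of an open subscheme. -/
noncomputable abbrev Φ : ModuleCat.{u} (U.presheaf.stalk y) ⥤ ModuleCat.{u} (ModSite.stalkRing (pt (j y)) X.sheaf) :=
  ModuleCat.restrictScalars (openRingEquiv j y).toRingHom ⋙ ModuleCat.restrictScalars (ringEquiv (j y)).toRingHom

/-- The site stalk in terms of the stalk of the restriction. -/
noncomputable def stalkModRestrictIso : ModSite.stalkMod (O := X.sheaf) (pt (j y)) M ≅
    (Φ j y).obj ((OX.stalk y).obj ((Scheme.Modules.restrictFunctor j).obj M)) :=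
  stalkModIso (j y) M ≪≫ (ModuleCat.restrictScalars (ringEquiv (j y)).toRingHom).mapIso (stalkRestrictIso M j y)

end GrothLib.ExtTilde20
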