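import Groth.Agent.Lib.ExtTilde20.Affine
import Groth.Agent.Lib.ExtTilde20.StalkHom
import Groth.Agent.Lib.ExtTilde20.StalkPoint
import Mathlib.CategoryTheory.Preadditive.Projective.Resolution

/-! # Stalks of local Ext -/

set_option autoImplicit false
set_option maxHeartbeats 400000
set_option linter.unusedVariables false
set_option linter.style.haveILetI false
set_option backward.isDefEq.respectTransparency false

universe u

open CategoryTheory CategoryTheory.Limits MonoidalCategory AlgebraicGeometry Opposite

namespace GrothLib.ExtTilde20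

section Rings

variable {A B : CommRingCat.{u}} (e : A ≃+* B)

/-- Change of rings does not change Hom modules. -/
noncomputable def homRestrictIso (P N : ModuleCat.{u} B) :
    (ModuleCat.restrictScalars e.toRingHom).obj (homMod B P N) ≅
      homMod A ((ModuleCat.restrictScalars e.toRingHom).obj P) ((ModuleCat.restrictScalars e.toRingHom).obj N) :=
  LinearEquiv.toModuleIso (X₁ := (ModuleCat.restrictScalars e.toRingHom).obj (homMod B P N))
    (LinearEquiv.ofBijective (M := ((ModuleCat.restrictScalars e.toRingHom).obj (homMod B P N) : ModuleCat.{u} A))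
      { toFun := fun f => (ModuleCat.restrictScalars e.toRingHom).map (f : P ⟶ N)
        map_add' := fun f g => (ModuleCat.restrictScalars e.toRingHom).map_add
        map_smul' := fun a f => ModuleCat.hom_ext (LinearMap.ext fun p => rfl) }
      ⟨fun _ _ h => (ModuleCat.restrictScalars e.toRingHom).map_injective h,
        fun g => (ModuleCat.restrictScalars e.toRingHom).map_surjective g⟩)

theorem homRestrictIso_natural {P P' : ModuleCat.{u} B} (a : P ⟶ P') (N : ModuleCat.{u} B) :
    (ModuleCat.restrictScalars e.toRingHom).map (preHom B a N) ≫ (homRestrictIso e P N).hom =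
      (homRestrictIso e P' N).hom ≫ preHom A ((ModuleCat.restrictScalars e.toRingHom).map a)
        ((ModuleCat.restrictScalars e.toRingHom).obj N) :=
  ModuleCat.hom_ext (LinearMap.ext fun f => (ModuleCat.restrictScalars e.toRingHom).map_comp a f)

theorem preservesProjective_restrict :
    (ModuleCat.restrictScalars e.toRingHom).PreservesProjectiveObjects :=
  ⟨fun {P} hP => (ModuleCat.restrictScalars e.toRingHom).asEquivalence.map_projective_iff P |>.2 hP⟩

theorem preservesHomology_restrict : (ModuleCat.restrictScalars.{u} e.toRingHom).PreservesHomology :=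
  Functor.preservesHomologyOfExact _

theorem nonempty_restrict_homology_linearYoneda {M : ModuleCat.{u} B} (Q : ProjectiveResolution M)
    (N : ModuleCat.{u} B) (i : ℕ) :
    Nonempty ((ModuleCat.restrictScalars e.toRingHom).obj ((Q.complex.linearYonedaObj B N).homology i) ≅
      ((Ext A (ModuleCat.{u} A) i).obj (op ((ModuleCat.restrictScalars e.toRingHom).obj M))).obj
        ((ModuleCat.restrictScalars e.toRingHom).obj N)) := by
  haveI := preservesProjective_restrict e
  haveI := preservesHomology_restrict e
  let F := ModuleCat.restrictScalars.{u} e.toRingHom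
  let Q' := F.mapProjectiveResolution Q
  let c : (F.mapHomologicalComplex _).obj (Q.complex.linearYonedaObj B N) ≅
      Q'.complex.linearYonedaObj A (F.obj N) :=
    HomologicalComplex.Hom.isoOfComponents (fun j => homRestrictIso e (Q.complex.X j) N) (fun j k hjk => by
      obtain rfl : j + 1 = k := hjk
      exact (homRestrictIso_natural e (Q.complex.d (j + 1) j) N).symm)
  exact ⟨(((Q.complex.linearYonedaObj B N).sc i).mapHomologyIso F).symm ≪≫
    HomologicalComplex.homologyMapIso c i ≪≫ (Q'.isoExt i (F.obj N)).symm⟩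

end Rings

section Affine

variable {R : CommRingCat.{u}} (y : Spec R)

/-- The stalk of an associated sheaf. -/
noncomputable abbrev tS : ModuleCat.{u} R ⥤ ModuleCat.{u} ((Spec R).presheaf.stalk y) :=
  tilde.functor R ⋙ OX.stalk y

theorem preservesProjective_tS : (tS y).PreservesProjectiveObjects := ⟨fun {P} hP =>
  Projective.of_iso ((OX.tildeStalkIso R y).app P).symm
    ((ModuleCat.extendRestrictScalarsAdj (OX.specToStalk R y)).map_projective P hP)⟩

theorem preservesHomology_tS : (tS y).PreservesHomology := by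
  haveI : (tilde.functor R).PreservesHomology := Functor.preservesHomologyOfExact _
  infer_instance

theorem additive_tS : (tS y).Additive := inferInstance

variable [IsNoetherianRing R] [HasInjectiveResolutions (ModSite.Mod (Spec R).sheaf)]

theorem nonempty_stalk_extSh_tilde_iso (M : ModuleCat.{u} R) [Module.Finite R M] (G : (Spec R).Modules)
    [ModSite.HasSheafHom (O := (Spec R).sheaf) ((tilde.functor R).obj M)] (i : ℕ) :
    ∃ Q : ProjectiveResolution ((tS y).obj M),
      Nonempty ((OX.stalk y).obj ((ModSite.extSh (O := (Spec R).sheaf) ((tilde.functor R).obj M) i).obj G) ≅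
        (Q.complex.linearYonedaObj ((Spec R).presheaf.stalk y) ((OX.stalk y).obj G)).homology i) := by
  haveI := preservesProjective_tS y
  haveI := preservesHomology_tS y
  let P := SGA2Fin.res M
  haveI := fun j => SGA2Fin.finite_res M j
  haveI := fun j => SGA2Fin.projective_res M j
  haveI hHom : ∀ j, ModSite.HasSheafHom (O := (Spec R).sheaf) ((tildeCx P).X j) := fun j =>
    SheafCoh.hasSheafHom _ _
  haveI hHom' : ∀ j, ModSite.HasSheafHom (O := (Spec R).sheaf) ((tilde.functor R).obj (P.complex.X j)) := hHom
  haveI := fun j => isIso_Ψ_tilde R (P.complex.X j) y G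
  haveI : Epi (aug P) := epi_comp _ _
  haveI : Epi ((tilde.functor R).map (aug P)) := inferInstance
  let d : ∀ j : ℕ, ((ModSite.sheafHom (O := (Spec R).sheaf) ((tildeCx P).X j)).obj G : (Spec R).Modules) ⟶
      (ModSite.sheafHom (O := (Spec R).sheaf) ((tildeCx P).X (j + 1))).obj G :=
    fun j => (ExtSupp.sheafHomMap (O := (Spec R).sheaf) ((tildeCx P).d (j + 1) j)).app G
  let C : CochainComplex (Spec R).Modules ℕ := CochainComplex.of
    (fun j => (ModSite.sheafHom (O := (Spec R).sheaf) ((tildeCx P).X j)).obj G) d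
    (fun j => HomSES20.homMap_comp_zero
      (ShortComplex.mk ((tildeCx P).d (j + 1 + 1) (j + 1)) ((tildeCx P).d (j + 1) j) ((tildeCx P).d_comp_d _ _ _)) G)
  obtain ⟨a⟩ := Groth.Agent.S15520.result (Spec R) ((tilde.functor R).obj M) G (tildeCx P)
    ((tilde.functor R).map (aug P))
    (((tilde.functor R).map_comp _ _).symm.trans ((congrArg _ (d_comp_aug P)).trans (Functor.map_zero _ _ _)))
    ((aug_exact P).map (tilde.functor R))
    (fun j => by
      rw [HomologicalComplex.exactAt_iff' _ (j + 1 + 1) (j + 1) j (by simp) (by simp)]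
      exact ((P.complex.exactAt_iff' (j + 1 + 1) (j + 1) j (by simp) (by simp)).1
        (P.complex_exactAt_succ j)).map (tilde.functor R))
    (fun j => OX.isFinLocFree_tilde (P.complex.X j))
    C (fun j => Iso.refl _) (fun j => by
      rw [Iso.refl_hom, Iso.refl_hom, Category.comp_id, Category.id_comp]
      exact CochainComplex.of_d (fun j => (ModSite.sheafHom (O := (Spec R).sheaf) ((tildeCx P).X j)).obj G) d j) i
  let Q := (tS y).mapProjectiveResolution P
  let c : ((OX.stalk y).mapHomologicalComplex _).obj C ≅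
      Q.complex.linearYonedaObj ((Spec R).presheaf.stalk y) ((OX.stalk y).obj G) :=
    HomologicalComplex.Hom.isoOfComponents (fun j => asIso (Ψ y ((tilde.functor R).obj (P.complex.X j)) G))
      (fun j k hjk => by
        obtain rfl : j + 1 = k := hjk
        refine (Ψ_natural y ((tilde.functor R).map (P.complex.d (j + 1) j)) G).symm.trans ?_
        exact congrArg (fun t => (OX.stalk y).map t ≫ Ψ y ((tilde.functor R).obj (P.complex.X (j + 1))) G)
          (CochainComplex.of_d _ d j).symm)
  exact ⟨Q, ⟨(OX.stalk y).mapIso a.symm ≪≫ ((C.sc i).mapHomologyIso (OX.stalk y)).symm ≪≫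
    HomologicalComplex.homologyMapIso c i⟩⟩

end Affine

variable {X : Scheme.{u}} [HasInjectiveResolutions (ModSite.Mod X.sheaf)]
  (F G : X.Modules) [F.IsQuasicoherent] [ModSite.HasSheafHom (O := X.sheaf) F]

theorem nonempty_stalkMod_extSh_iso {U : X.Opens} (hU : IsAffineOpen U) [IsNoetherianRing Γ(X, U)]
    [Module.Finite Γ(X, U) Γ(F, U)] (y : Spec Γ(X, U)) (i : ℕ) :
    Nonempty (ModSite.stalkMod (O := X.sheaf) (pt (hU.fromSpec y)) ((ModSite.extSh (O := X.sheaf) F i).obj G)
      ≃ₗ[ModSite.stalkRing (pt (hU.fromSpec y)) X.sheaf]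
      Abelian.Ext (ModSite.stalkMod (O := X.sheaf) (pt (hU.fromSpec y)) F)
        (ModSite.stalkMod (O := X.sheaf) (pt (hU.fromSpec y)) G) i) := by
  haveI := hasInjectiveResolutions_mod (Spec Γ(X, U))
  haveI := SheafCoh.hasSheafHom (Spec Γ(X, U)).sheaf ((Scheme.Modules.restrictFunctor hU.fromSpec).obj F)
  haveI := SheafCoh.hasSheafHom (Spec Γ(X, U)).sheaf ((tilde.functor Γ(X, U)).obj (secMod F))
  haveI : Module.Finite Γ(X, U) (secMod (U := U) F) := inferInstanceAs (Module.Finite Γ(X, U) Γ(F, U))
  obtain ⟨Q, ⟨a⟩⟩ := nonempty_stalk_extSh_tilde_iso y (secMod (U := U) F)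
    ((Scheme.Modules.restrictFunctor hU.fromSpec).obj G) i
  let j := hU.fromSpec
  let e := (ringEquiv (j y)).trans (openRingEquiv j y)
  let c := fun N : ModuleCat.{u} ((Spec Γ(X, U)).presheaf.stalk y) =>
    (ModuleCat.restrictScalarsComp'App (ringEquiv (j y)).toRingHom (openRingEquiv j y).toRingHom e.toRingHom rfl N).symm
  obtain ⟨b⟩ := nonempty_restrict_homology_linearYoneda e Q
    ((OX.stalk y).obj ((Scheme.Modules.restrictFunctor j).obj G)) i
  let sG := stalkModRestrictIso G j y ≪≫ c _
  let sF := stalkModRestrictIso F j y ≪≫ c _ ≪≫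
    (ModuleCat.restrictScalars e.toRingHom).mapIso ((OX.stalk y).mapIso (restrictTildeIso hU F))
  let sE := stalkModRestrictIso ((ModSite.extSh (O := X.sheaf) F i).obj G) j y ≪≫ c _ ≪≫
    (ModuleCat.restrictScalars e.toRingHom).mapIso ((OX.stalk y).mapIso
      ((HomRestrict20.extShRestrictIso j F i).app G ≪≫ (extShCongr (restrictTildeIso hU F) i).app _) ≪≫ a) ≪≫ b
  let K := Ext (ModSite.stalkRing (pt (j y)) X.sheaf) (ModuleCat.{u} (ModSite.stalkRing (pt (j y)) X.sheaf)) i
  exact ⟨(sE ≪≫ ((K.mapIso sF.op).app _) ≪≫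
    (K.obj (op (ModSite.stalkMod (O := X.sheaf) (pt (j y)) F))).mapIso sG.symm).toLinearEquiv ≪≫ₗ
      LC.extEquiv _ _ i⟩

end GrothLib.ExtTilde20
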