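import Groth.Agent.Lib.ExtTilde20.Hom
import Groth.Agent.Lib.SGA2Fin.Resolution
import Groth.Agent.Lib.LC.Compare
import Groth.Agent.Lib.QCoh.Abelian
import Groth.Agent.Lib.SheafCoh.TensorAdj
import Groth.Agent.S15520

/-! # Local Ext of associated sheaves on an affine noetherian scheme -/

set_option autoImplicit false
set_option maxHeartbeats 400000
set_option linter.style.haveILetI false
set_option backward.isDefEq.respectTransparency false

universe u

open CategoryTheory CategoryTheory.Limits MonoidalCategory AlgebraicGeometry Opposite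

namespace GrothLib.ExtTilde20

variable {R : CommRingCat.{u}} {M : ModuleCat.{u} R} (P : ProjectiveResolution M)

/-- The augmentation. -/
noncomputable abbrev aug : P.complex.X 0 ⟶ M := P.π.f 0 ≫ (HomologicalComplex.singleObjXSelf _ 0 M).hom

theorem d_comp_aug : P.complex.d 1 0 ≫ aug P = 0 := by
  rw [← Category.assoc, P.complex_d_comp_π_f_zero, zero_comp]

theorem aug_exact : (ShortComplex.mk (P.complex.d 1 0) (aug P) (d_comp_aug P)).Exact := by
  refine (ShortComplex.exact_iff_of_iso (ShortComplex.isoMk (Iso.refl _) (Iso.refl _)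
      (HomologicalComplex.singleObjXSelf (ComplexShape.down ℕ) 0 M) ?_ ?_)).1 P.exact₀
  · simp
  · simp [aug]

/-- The resolution of the associated sheaf. -/
noncomputable abbrev tildeCx : ChainComplex (Spec R).Modules ℕ :=
  ((tilde.functor R).mapHomologicalComplex _).obj P.complex

/-- The sheaves of the Hom complex. -/
noncomputable abbrev tildeHomCx (N : ModuleCat.{u} R) : CochainComplex (Spec R).Modules ℕ :=
  ((tilde.functor R).mapHomologicalComplex _).obj (P.complex.linearYonedaObj R N)

theorem linearYonedaObj_d_eq (N : ModuleCat.{u} R) (j : ℕ) :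
    (P.complex.linearYonedaObj R N).d j (j + 1) = preHom R (P.complex.d (j + 1) j) N := rfl

theorem tildeHomCx_comm (N : ModuleCat.{u} R) (j : ℕ)
    [ModSite.HasSheafHom (O := (Spec R).sheaf) ((tilde.functor R).obj (P.complex.X j))]
    [ModSite.HasSheafHom (O := (Spec R).sheaf) ((tilde.functor R).obj (P.complex.X (j + 1)))] :
    (tildeHomCx P N).d j (j + 1) ≫ φ (P.complex.X (j + 1)) N =
      φ (P.complex.X j) N ≫
        (ExtSupp.sheafHomMap (O := (Spec R).sheaf) ((tilde.functor R).map (P.complex.d (j + 1) j))).app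
          ((tilde.functor R).obj N) := by
  refine Eq.trans ?_ (φ_natural (P.complex.d (j + 1) j) N).symm
  refine congrArg (· ≫ φ (P.complex.X (j + 1)) N) ?_
  exact congrArg (tilde.functor R).map (linearYonedaObj_d_eq P N j)

variable [IsNoetherianRing R] [HasInjectiveResolutions (ModSite.Mod (Spec R).sheaf)]

omit P in
variable (M) in
/-- `ℰxt^i(M~, N~) ≅ Ext^i(M, N)~`. -/
theorem nonempty_extSh_tilde_iso [Module.Finite R M] (N : ModuleCat.{u} R)
    [ModSite.HasSheafHom (O := (Spec R).sheaf) ((tilde.functor R).obj M)] (i : ℕ) :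
    Nonempty ((ModSite.extSh (O := (Spec R).sheaf) ((tilde.functor R).obj M) i).obj ((tilde.functor R).obj N) ≅
      (tilde.functor R).obj (ModuleCat.of R (Abelian.Ext M N i))) := by
  let P := SGA2Fin.res M
  haveI := fun j => SGA2Fin.finite_res M j
  haveI := fun j => SGA2Fin.projective_res M j
  haveI hHom : ∀ j, ModSite.HasSheafHom (O := (Spec R).sheaf) ((tildeCx P).X j) := fun j =>
    SheafCoh.hasSheafHom _ _
  haveI hHom' : ∀ j, ModSite.HasSheafHom (O := (Spec R).sheaf) ((tilde.functor R).obj (P.complex.X j)) := hHom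
  haveI := fun j => isIso_φ (P.complex.X j) N
  haveI : Epi (aug P) := epi_comp _ _
  haveI : Epi ((tilde.functor R).map (aug P)) := inferInstance
  obtain ⟨a⟩ := Groth.Agent.S15520.result (Spec R) ((tilde.functor R).obj M) ((tilde.functor R).obj N) (tildeCx P)
    ((tilde.functor R).map (aug P))
    (((tilde.functor R).map_comp _ _).symm.trans ((congrArg _ (d_comp_aug P)).trans (Functor.map_zero _ _ _)))
    ((aug_exact P).map (tilde.functor R))
    (fun j => by
      rw [HomologicalComplex.exactAt_iff' _ (j + 1 + 1) (j + 1) j (by simp) (by simp)]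
      exact ((P.complex.exactAt_iff' (j + 1 + 1) (j + 1) j (by simp) (by simp)).1
        (P.complex_exactAt_succ j)).map (tilde.functor R))
    (fun j => OX.isFinLocFree_tilde (P.complex.X j))
    (tildeHomCx P N) (fun j => asIso (φ (P.complex.X j) N)) (fun j => tildeHomCx_comm P N j) i
  exact ⟨a.symm ≪≫ ((P.complex.linearYonedaObj R N).sc i).mapHomologyIso (tilde.functor R) ≪≫
    (tilde.functor R).mapIso ((P.isoExt i N).symm ≪≫ (LC.extEquiv M N i).toModuleIso)⟩

end GrothLib.ExtTilde20
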