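import Groth.Agent.Lib.ModSupp25.HomIso
import Groth.Agent.Lib.SheafCoh.Derived
import Groth.Agent.Lib.OX.Exact
import Groth.Agent.Lib.MaxSupp.Basic
import Groth.Prelude.Def_ExtSupp

/-! # Local Ext with supports out of a module supported there -/

set_option autoImplicit false
set_option maxHeartbeats 400000
set_option linter.style.haveILetI false
set_option backward.isDefEq.respectTransparency false

universe u

open CategoryTheory CategoryTheory.Limits AlgebraicGeometry Opposite

namespace GrothLib.ExtTilde20

variable {C : Type u} [SmallCategory C] {J : GrothendieckTopology C} (O : Sheaf J CommRingCat.{u}) (U : C)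

/-- Internal homs out of a null module are null. -/
theorem isNullOn_sheafHom_left {M : ModSite.Mod O} [ModSite.HasSheafHom M] (hM : ModSite.IsNullOn O U M)
    (N : ModSite.Mod O) : ModSite.IsNullOn O U ((ModSite.sheafHom M).obj N) := by
  change IsZero ((ModSite.restr O U).obj ((ModSite.sheafHom M).obj N))
  rw [IsZero.iff_id_eq_zero]
  let G := (ModSite.restr O U).obj ((ModSite.sheafHom M).obj N)
  have hz : IsZero (((ModSite.tensorBi (O.over U)).obj G).obj ((ModSite.restr O U).obj M)) := by
    have := ModFlat.additive_T G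
    exact ((ModFlat.T G).map_isZero hM).of_iso (((ModFlat.tensorSymm (O.over U)).app G).app ((ModSite.restr O U).obj M))
  have hs : Subsingleton (G ⟶ (ModSite.restr O U).obj ((ModSite.sheafHom M).obj N)) := by
    have : Subsingleton (((ModSite.tensorBi (O.over U)).obj G).obj ((ModSite.restr O U).obj M) ⟶
        (ModSite.restr O U).obj N) := ⟨fun a b => hz.eq_of_src a b⟩
    exact (((ModSite.extZeroAdj O U).homEquiv G _).symm.trans
      (((ModSite.sheafHomAdj M).homEquiv _ N).symm.trans
        (((ModExtZero.projIso O U G M).symm.homCongr (Iso.refl N)).trans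
          ((ModSite.extZeroAdj O U).homEquiv _ N)))).subsingleton
  exact hs.elim _ _

theorem isIso_sectOnι_app [ModSite.HasPushOver O U] {N : ModSite.Mod O} (h : ModSite.IsNullOn O U N) :
    IsIso ((ModSite.sectOnι O U).app N) := by
  have : PreservesLimitsOfSize.{0, 0} (ModSite.pushOver O U) :=
    (ModSite.restrPushOverAdj O U).rightAdjoint_preservesLimits
  have : (ModSite.pushOver O U).Additive := Functor.additive_of_preserves_binary_products _
  have h0 : (ModSite.restrPushOverAdj O U).unit.app N = 0 := ((ModSite.pushOver O U).map_isZero h).eq_of_tgt _ _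
  show IsIso (kernel.ι ((ModSite.restrPushOverAdj O U).unit.app N))
  exact KernelFork.IsLimit.isIso_ι (KernelFork.ofι _ (kernel.condition _)) (kernelIsKernel _) h0

/-- `ℰxt_Z(M, -) = ℰxt(M, -)` for `M` supported in `Z`. -/
theorem nonempty_extZSh_iso [ModSite.HasPushOver O U] {M : ModSite.Mod O} [ModSite.HasSheafHom M]
    [HasInjectiveResolutions (ModSite.Mod O)] (hM : ModSite.IsNullOn O U M) (q : ℕ) :
    Nonempty (ModSite.extZSh U M q ≅ ModSite.extSh M q) := by
  haveI : ∀ N, IsIso ((Functor.whiskerLeft (ModSite.sheafHom M) (ModSite.sectOnι O U)).app N) := fun N =>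
    isIso_sectOnι_app O U (isNullOn_sheafHom_left O U hM N)
  haveI : IsIso (Functor.whiskerLeft (ModSite.sheafHom M) (ModSite.sectOnι O U)) := NatIso.isIso_of_isIso_app _
  exact ⟨SheafCoh.rightDerivedCongr
    (asIso (Functor.whiskerLeft (ModSite.sheafHom M) (ModSite.sectOnι O U)) ≪≫ Functor.rightUnitor _) q⟩

theorem isNullOn_of_support {X : Scheme.{u}} (V : X.Opens) (F : X.Modules)
    (h : ∀ x ∈ CohB1.support F, x ∉ (V : Set X)) : ModSite.IsNullOn X.sheaf V F := by
  rw [ModSupp25.isNullOn_iff]
  intro W f s
  refine OX.section_eq_zero (M := F) (U := W) s fun x hx => ?_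
  have hx' : x ∉ CohB1.support F := fun hxs => h x hxs (f.le hx)
  exact @Subsingleton.elim _ (not_not.1 hx') _ _

end GrothLib.ExtTilde20
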